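import Mathlib
import Groth.Agent.BlowChartLib.Scheme
import Groth.Agent.IdealStalkLib.Comap

/-!
Morphisms to the affine charts of a blow-up: the locus on which a given section generates the
inverse image of the centre, and the universal property of the chart.
-/

set_option autoImplicit false
set_option backward.isDefEq.respectTransparency false
set_option backward.isDefEq.respectTransparency.types false
set_option backward.defeqAttrib.useBackward true
set_option linter.style.haveILetI false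
set_option maxHeartbeats 800000

universe u

open CategoryTheory CategoryTheory.Limits AlgebraicGeometry

namespace Groth.Agent.BlowExistsLib

open BlowChartLib

variable {X W W' : Scheme.{u}} {𝓘 : X.IdealSheafData}

theorem isUnit_of_span_eq {R : Type*} [CommRing R] {f c : R} (hf : f ∈ nonZeroDivisors R)
    (h : f ∈ Ideal.span {c * f}) : IsUnit c := by
  obtain ⟨d, hd⟩ := Ideal.mem_span_singleton'.1 h
  refine IsUnit.of_mul_eq_one d ((mul_cancel_right_mem_nonZeroDivisors hf).1 ?_)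
  rw [one_mul, mul_comm c d, mul_assoc, hd]

theorem germ_mem_nonZeroDivisors {V : X.Opens} (hV : IsAffineOpen V) (x : X) (hx : x ∈ V) {f : Γ(X, V)}
    (hf : f ∈ nonZeroDivisors Γ(X, V)) :
    (X.presheaf.germ V x hx).hom f ∈ nonZeroDivisors (X.presheaf.stalk x) := by
  letI := TopCat.Presheaf.algebra_section_stalk X.presheaf ⟨x, hx⟩
  haveI := hV.isLocalization_stalk ⟨x, hx⟩
  exact IsLocalization.map_nonZeroDivisors_le (hV.primeIdealOf ⟨x, hx⟩).asIdeal.primeCompl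
    (X.presheaf.stalk x) ⟨f, hf, rfl⟩

theorem exists_stalk_generator {I : X.IdealSheafData} (hI : BlowUp.IsEffCartierIdeal I) (x : X) :
    ∃ f ∈ nonZeroDivisors (X.presheaf.stalk x), IntMult.stalkIdeal I x = Ideal.span {f} := by
  obtain ⟨V, hx, f, hf, hfI⟩ := hI x
  refine ⟨_, germ_mem_nonZeroDivisors V.2 x hx hf, ?_⟩
  rw [IdealStalkLib.stalkIdeal_eq I V x hx, hfI, Ideal.map_span, Set.image_singleton]

theorem generator_mem_nonZeroDivisors {I : X.IdealSheafData} (hI : BlowUp.IsEffCartierIdeal I) (x : X)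
    {φ : X.presheaf.stalk x} (h : IntMult.stalkIdeal I x = Ideal.span {φ}) :
    φ ∈ nonZeroDivisors (X.presheaf.stalk x) := by
  obtain ⟨f, hf, hfI⟩ := exists_stalk_generator hI x
  rw [hfI] at h
  obtain ⟨c, hc⟩ := Ideal.mem_span_singleton'.1 (h.ge (Ideal.mem_span_singleton_self φ))
  have hu : IsUnit c := isUnit_of_span_eq hf (by rw [hc]; exact h.le (Ideal.mem_span_singleton_self f))
  rw [← hc]
  exact mul_mem hu.mem_nonZeroDivisors hf

/-- The pulled back value at a point of a section of `X` over an open containing its image. -/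
noncomputable def gerA (g : W ⟶ X) (w : W) {U : X.affineOpens} (hw : g w ∈ U.1) (a : Γ(X, U.1)) :
    W.presheaf.stalk w :=
  (g.stalkMap w).hom ((X.presheaf.germ U.1 (g w) hw).hom a)

theorem gerA_eq (g : W ⟶ X) {U : X.affineOpens} (a : Γ(X, U.1)) {V : W.Opens} (e : V ≤ g ⁻¹ᵁ U.1) (w : W)
    (hw : w ∈ V) : (W.presheaf.germ V w hw).hom ((g.appLE U.1 V e).hom a) = gerA g w (e hw) a := by
  rw [gerA, ← CommRingCat.comp_apply, ← CommRingCat.comp_apply, Scheme.Hom.germ_stalkMap, Scheme.Hom.appLE,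
    Category.assoc, W.presheaf.germ_res]

theorem stalkIdeal_eq_map (g : W ⟶ X) (w : W) {U : X.affineOpens} (hw : g w ∈ U.1) :
    IntMult.stalkIdeal (𝓘.comap g) w =
      ((𝓘.ideal U).map (X.presheaf.germ U.1 (g w) hw).hom).map (g.stalkMap w).hom := by
  rw [IdealStalkLib.stalkIdeal_comap, IdealStalkLib.stalkIdeal_eq 𝓘 U (g w) hw]

theorem gerA_mem (g : W ⟶ X) (w : W) {U : X.affineOpens} (hw : g w ∈ U.1) {a : Γ(X, U.1)} (ha : a ∈ 𝓘.ideal U) :
    gerA g w hw a ∈ IntMult.stalkIdeal (𝓘.comap g) w := by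
  rw [stalkIdeal_eq_map g w hw]
  exact Ideal.mem_map_of_mem _ (Ideal.mem_map_of_mem _ ha)

theorem exists_affine_generator {g : W ⟶ X} (hc : BlowUp.IsEffCartierIdeal (𝓘.comap g)) (w : W)
    {U : X.affineOpens} (hw : g w ∈ U.1) :
    ∃ (V : W.affineOpens) (_ : V.1 ≤ g ⁻¹ᵁ U.1), w ∈ V.1 ∧
      ∃ f ∈ nonZeroDivisors Γ(W, V.1), (𝓘.comap g).ideal V = Ideal.span {f} := by
  obtain ⟨V₀, hwV₀, f₀, hf₀, hI₀⟩ := hc w
  obtain ⟨t, htle, hwt⟩ := V₀.2.exists_basicOpen_le (V := V₀.1 ⊓ g ⁻¹ᵁ U.1) ⟨w, hwV₀, hw⟩ hwV₀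
  obtain ⟨f, hf, hI⟩ := RelDivLib.generator_res (𝓘.comap g) V₀ t hf₀ hI₀
  exact ⟨W.affineBasicOpen (U := V₀) t, htle.trans inf_le_right, hwt, f, hf, hI⟩

variable {U : X.affineOpens} {a : Γ(X, U.1)}

theorem stalk_generated {g : W ⟶ X} {w : W} (h : w ∈ chartOpen 𝓘 U a g) :
    ∃ hw : g w ∈ U.1, IntMult.stalkIdeal (𝓘.comap g) w = Ideal.span {gerA g w hw a} := by
  obtain ⟨⟨V, e, hn, hI⟩, hwV⟩ := TopologicalSpace.Opens.mem_iSup.1 h
  refine ⟨e hwV, ?_⟩
  rw [IdealStalkLib.stalkIdeal_eq _ V w hwV, hI, Ideal.map_span, Set.image_singleton, gerA_eq]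

theorem mem_chartOpen_of_stalk {g : W ⟶ X} (hc : BlowUp.IsEffCartierIdeal (𝓘.comap g)) (ha : a ∈ 𝓘.ideal U)
    {w : W} (hw : g w ∈ U.1) (h : IntMult.stalkIdeal (𝓘.comap g) w = Ideal.span {gerA g w hw a}) :
    w ∈ chartOpen 𝓘 U a g := by
  obtain ⟨V, e, hwV, f, hf, hI⟩ := exists_affine_generator hc w hw
  have hmem : (g.appLE U.1 V.1 e).hom a ∈ (𝓘.comap g).ideal V := by
    rw [IdealStalkLib.comap_ideal 𝓘 g U.2 V.2 e]
    exact Ideal.mem_map_of_mem _ ha
  rw [hI] at hmem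
  obtain ⟨d, hd⟩ := Ideal.mem_span_singleton'.1 hmem
  rw [IdealStalkLib.stalkIdeal_eq _ V w hwV, hI, Ideal.map_span, Set.image_singleton,
    ← gerA_eq g a e w hwV, ← hd, map_mul] at h
  have hu := isUnit_of_span_eq (germ_mem_nonZeroDivisors V.2 w hwV hf) (h.le (Ideal.mem_span_singleton_self _))
  exact TopologicalSpace.Opens.mem_iSup.2
    ⟨⟨_, isGood_basicOpen 𝓘 U a g e hf hI hd.symm⟩, (W.mem_basicOpen d w hwV).2 hu⟩

theorem chartOpen_le_preimage (g : W ⟶ X) : chartOpen 𝓘 U a g ≤ g ⁻¹ᵁ U.1 := fun _ hw => (stalk_generated hw).1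

theorem isEffCartier_of_chartOpen {g : W ⟶ X} (h : chartOpen 𝓘 U a g = ⊤) :
    BlowUp.IsEffCartierIdeal (𝓘.comap g) := fun w => by
  obtain ⟨⟨V, e, hn, hI⟩, hwV⟩ := TopologicalSpace.Opens.mem_iSup.1 (h.ge (trivial : w ∈ (⊤ : W.Opens)))
  exact ⟨V, hwV, _, hn, hI⟩

theorem gerA_comp (h : W' ⟶ W) (g : W ⟶ X) (w : W') (hw : (h ≫ g) w ∈ U.1) (a : Γ(X, U.1)) :
    gerA (h ≫ g) w hw a = (h.stalkMap w).hom (gerA g (h w) (by simpa using hw) a) := by
  simp only [gerA, Scheme.Hom.stalkMap_comp, CommRingCat.comp_apply]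
  rfl

/-- The generation locus is compatible with inverse images. -/
theorem preimage_chartOpen (h : W' ⟶ W) (g : W ⟶ X) (hc : BlowUp.IsEffCartierIdeal (𝓘.comap g))
    (hc' : BlowUp.IsEffCartierIdeal (𝓘.comap (h ≫ g))) (ha : a ∈ 𝓘.ideal U) :
    h ⁻¹ᵁ chartOpen 𝓘 U a g = chartOpen 𝓘 U a (h ≫ g) := by
  ext w
  have hst : IntMult.stalkIdeal (𝓘.comap (h ≫ g)) w =
      (IntMult.stalkIdeal (𝓘.comap g) (h w)).map (h.stalkMap w).hom := by
    rw [Scheme.IdealSheafData.comap_comp, IdealStalkLib.stalkIdeal_comap]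
  constructor
  · intro hw
    obtain ⟨hU, hs⟩ := stalk_generated (show h w ∈ chartOpen 𝓘 U a g from hw)
    have hU' : (h ≫ g) w ∈ U.1 := by simpa using hU
    refine mem_chartOpen_of_stalk hc' ha hU' ?_
    rw [hst, hs, Ideal.map_span, Set.image_singleton, gerA_comp]
  · intro hw
    obtain ⟨hU', hs⟩ := stalk_generated (show w ∈ chartOpen 𝓘 U a (h ≫ g) from hw)
    have hU : g (h w) ∈ U.1 := by simpa using hU'
    refine mem_chartOpen_of_stalk hc ha hU ?_
    obtain ⟨φ, hφ, hφI⟩ := exists_stalk_generator hc (h w)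
    have hm := gerA_mem g (h w) hU ha
    rw [hφI] at hm ⊢
    obtain ⟨δ, hδ⟩ := Ideal.mem_span_singleton'.1 hm
    rw [hst, hφI, Ideal.map_span, Set.image_singleton, gerA_comp h g w hU' a, ← hδ, map_mul] at hs
    have hφ' : (h.stalkMap w).hom φ ∈ nonZeroDivisors (W'.presheaf.stalk w) :=
      generator_mem_nonZeroDivisors hc' w (by rw [hst, hφI, Ideal.map_span, Set.image_singleton])
    have hu := isUnit_of_span_eq hφ' (hs.le (Ideal.mem_span_singleton_self _))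
    rw [← hδ, Ideal.span_singleton_mul_left_unit ((isUnit_map_iff (h.stalkMap w).hom δ).1 hu)]

theorem chartOpen_chartMap (ha : a ∈ 𝓘.ideal U) : chartOpen 𝓘 U a (chartMap 𝓘 U a) = ⊤ := by
  refine top_le_iff.1 fun y _ => ?_
  obtain ⟨g, hg, hgn, hI⟩ := exists_top_generator 𝓘 U a ha
  subst hg
  exact TopologicalSpace.Opens.mem_iSup.2
    ⟨⟨⟨⊤, isAffineOpen_top _⟩, le_preimage_chartMap 𝓘 U a, hgn, hI⟩, trivial⟩

/-- The generation loci cover. -/
theorem exists_mem_chartOpen {g : W ⟶ X} (hc : BlowUp.IsEffCartierIdeal (𝓘.comap g)) {U : X.affineOpens}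
    (s : Set Γ(X, U.1)) (hs : Ideal.span s = 𝓘.ideal U) (w : W) (hw : g w ∈ U.1) :
    ∃ a ∈ s, w ∈ chartOpen 𝓘 U a g := by
  obtain ⟨φ, hφ, hφI⟩ := exists_stalk_generator hc w
  by_contra hn
  push Not at hn
  have hle : IntMult.stalkIdeal (𝓘.comap g) w ≤ IsLocalRing.maximalIdeal (W.presheaf.stalk w) * Ideal.span {φ} := by
    rw [stalkIdeal_eq_map g w hw, ← hs, Ideal.map_span, Ideal.map_span, ← Set.image_comp, Ideal.span_le]
    rintro _ ⟨a, ha, rfl⟩
    have haI : a ∈ 𝓘.ideal U := hs ▸ Ideal.subset_span ha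
    obtain ⟨d, hd⟩ := Ideal.mem_span_singleton'.1 (hφI.le (gerA_mem g w hw haI))
    refine Ideal.mem_mul_span_singleton.2 ⟨d, ?_, hd⟩
    rw [IsLocalRing.mem_maximalIdeal, mem_nonunits_iff]
    exact fun hu => hn a ha (mem_chartOpen_of_stalk hc haI hw (by rw [hφI, ← hd, Ideal.span_singleton_mul_left_unit hu]))
  rw [hφI] at hle
  obtain ⟨p, hp, hpf⟩ := Ideal.mem_mul_span_singleton.1 (hle (Ideal.mem_span_singleton_self φ))
  have hp1 : p = 1 := (mul_cancel_right_mem_nonZeroDivisors hφ).1 (by rw [one_mul, hpf])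
  exact (IsLocalRing.maximalIdeal.isMaximal _).ne_top ((Ideal.eq_top_iff_one _).2 (hp1 ▸ hp))

/-- The universal property of the chart: existence. -/
theorem exists_lift_chart (g : W ⟶ X) (h : chartOpen 𝓘 U a g = ⊤) (ha : a ∈ 𝓘.ideal U) :
    ∃ m : W ⟶ Spec (CommRingCat.of (ChartAlg 𝓘 U a)), m ≫ chartMap 𝓘 U a = g := by
  have hc := isEffCartier_of_chartOpen h
  have key : ∀ V : {V : W.affineOpens // IsGood 𝓘 U a g V},
      ∃ m : V.1.1.toScheme ⟶ Spec (CommRingCat.of (ChartAlg 𝓘 U a)), m ≫ chartMap 𝓘 U a = V.1.1.ι ≫ g := by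
    rintro ⟨V, e, hn, hI⟩
    obtain ⟨φ, hφ⟩ := exists_hom (I := 𝓘.ideal U) (g.appLE U.1 V.1 e).hom hn
      (by rw [← hI, IdealStalkLib.comap_ideal 𝓘 g U.2 V.2 e])
    refine ⟨V.2.isoSpec.hom ≫ Spec.map (CommRingCat.ofHom φ), ?_⟩
    rw [← cancel_epi V.2.isoSpec.inv]
    simp only [Category.assoc, Iso.inv_hom_id_assoc, chartMap]
    rw [← Spec.map_comp_assoc, show CommRingCat.ofHom (algebraMap Γ(X, U.1) (ChartAlg 𝓘 U a)) ≫ CommRingCat.ofHom φ =
      g.appLE U.1 V.1 e from CommRingCat.hom_ext hφ, IsAffineOpen.SpecMap_appLE_fromSpec g U.2 V.2 e,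
      IsAffineOpen.fromSpec, Category.assoc]
  choose m hm using key
  let 𝒰 := W.openCoverOfIsOpenCover (fun V : {V : W.affineOpens // IsGood 𝓘 U a g V} => V.1.1) (TopologicalSpace.IsOpenCover.mk h)
  refine ⟨𝒰.glueMorphisms m fun V V' => ?_, ?_⟩
  · refine chartMap_hom_ext 𝓘 U a ha ?_ ?_
    · rw [Category.assoc, Category.assoc, hm, hm, ← Category.assoc, ← Category.assoc]
      congr 1
      exact pullback.condition
    · rw [Category.assoc, hm, ← Category.assoc, Scheme.IdealSheafData.comap_comp]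
      exact BlowCompLib.isEffCartier_comap_openImmersion hc _
  · refine Scheme.Cover.hom_ext 𝒰 _ _ fun V => ?_
    rw [← Category.assoc, Scheme.Cover.ι_glueMorphisms]
    exact hm V

theorem lift_chart_unique (ha : a ∈ 𝓘.ideal U) {m m' : W ⟶ Spec (CommRingCat.of (ChartAlg 𝓘 U a))}
    (hc : BlowUp.IsEffCartierIdeal (𝓘.comap (m ≫ chartMap 𝓘 U a))) (h : m ≫ chartMap 𝓘 U a = m' ≫ chartMap 𝓘 U a) :
    m = m' := chartMap_hom_ext 𝓘 U a ha h hc

end Groth.Agent.BlowExistsLib
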