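import Mathlib
import Groth.Agent.BlowExistsLib.Chart
import Groth.Agent.BlowProdLib.Basic

/-!
Existence of blow-ups: the affine charts glue.
-/

set_option autoImplicit false
set_option backward.isDefEq.respectTransparency false
set_option backward.isDefEq.respectTransparency.types false
set_option backward.defeqAttrib.useBackward true
set_option linter.style.haveILetI false
set_option maxHeartbeats 800000

universe u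

open CategoryTheory CategoryTheory.Limits AlgebraicGeometry

namespace Groth.Agent.BlowExistsLib

open BlowChartLib

variable {X W : Scheme.{u}} (𝓘 : X.IdealSheafData)

/-- Indices of charts. -/
abbrev Idx : Type u := Σ U : X.affineOpens, {a : Γ(X, U.1) // a ∈ 𝓘.ideal U}

/-- The chart. -/
noncomputable abbrev Z (i : Idx 𝓘) : Scheme.{u} := Spec (CommRingCat.of (ChartAlg 𝓘 i.1 i.2.1))

/-- The structure map of the chart. -/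
noncomputable abbrev cm (i : Idx 𝓘) : Z 𝓘 i ⟶ X := chartMap 𝓘 i.1 i.2.1

/-- The locus on which the generator of index `i` generates. -/
abbrev gen (i : Idx 𝓘) (g : W ⟶ X) : W.Opens := chartOpen 𝓘 i.1 i.2.1 g

/-- The overlap, as an open of the chart `i`. -/
noncomputable abbrev ov (i j : Idx 𝓘) : (Z 𝓘 i).Opens := gen 𝓘 j (cm 𝓘 i)

theorem cart_cm (i : Idx 𝓘) : BlowUp.IsEffCartierIdeal (𝓘.comap (cm 𝓘 i)) :=
  isEffCartier_chartMap 𝓘 i.1 i.2.1 i.2.2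

theorem cart_openImm {P : Scheme.{u}} {g : W ⟶ X} (hc : BlowUp.IsEffCartierIdeal (𝓘.comap g)) (m : P ⟶ W)
    [IsOpenImmersion m] : BlowUp.IsEffCartierIdeal (𝓘.comap (m ≫ g)) := by
  rw [Scheme.IdealSheafData.comap_comp]
  exact BlowCompLib.isEffCartier_comap_openImmersion hc _

theorem gen_eq_top_of_range {P : Scheme.{u}} (i : Idx 𝓘) {g : W ⟶ X} (hc : BlowUp.IsEffCartierIdeal (𝓘.comap g))
    (m : P ⟶ W) (hc' : BlowUp.IsEffCartierIdeal (𝓘.comap (m ≫ g))) (h : ∀ p, m p ∈ gen 𝓘 i g) :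
    gen 𝓘 i (m ≫ g) = ⊤ := by
  rw [gen, ← preimage_chartOpen m g hc hc' i.2.2]
  exact top_le_iff.1 fun p _ => h p

/-- The unique lift to a chart. -/
noncomputable def liftTo (g : W ⟶ X) (j : Idx 𝓘) (h : gen 𝓘 j g = ⊤) : W ⟶ Z 𝓘 j :=
  (exists_lift_chart g h j.2.2).choose

@[reassoc (attr := simp)]
theorem liftTo_cm (g : W ⟶ X) (j : Idx 𝓘) (h : gen 𝓘 j g = ⊤) : liftTo 𝓘 g j h ≫ cm 𝓘 j = g :=
  (exists_lift_chart g h j.2.2).choose_spec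

theorem hom_ext_cm {j : Idx 𝓘} {m m' : W ⟶ Z 𝓘 j} (g : W ⟶ X) (hc : BlowUp.IsEffCartierIdeal (𝓘.comap g))
    (h : m ≫ cm 𝓘 j = g) (h' : m' ≫ cm 𝓘 j = g) : m = m' :=
  lift_chart_unique j.2.2 (by rw [show m ≫ chartMap 𝓘 j.1 j.2.1 = g from h]; exact hc) (h.trans h'.symm)

theorem liftTo_mem (g : W ⟶ X) (hc : BlowUp.IsEffCartierIdeal (𝓘.comap g)) (i j : Idx 𝓘) (h : gen 𝓘 j g = ⊤)
    (w : W) (hw : w ∈ gen 𝓘 i g) : liftTo 𝓘 g j h w ∈ ov 𝓘 j i := by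
  show w ∈ liftTo 𝓘 g j h ⁻¹ᵁ gen 𝓘 i (cm 𝓘 j)
  rw [gen, preimage_chartOpen _ _ (cart_cm 𝓘 j) (by rw [liftTo_cm]; exact hc) i.2.2, liftTo_cm]
  exact hw

theorem gen_ov_self (i j : Idx 𝓘) : gen 𝓘 i ((ov 𝓘 i j).ι ≫ cm 𝓘 i) = ⊤ :=
  gen_eq_top_of_range 𝓘 i (cart_cm 𝓘 i) _ (cart_openImm 𝓘 (cart_cm 𝓘 i) _)
    fun _ => (chartOpen_chartMap i.2.2).ge trivial

theorem gen_ov_other (i j : Idx 𝓘) : gen 𝓘 j ((ov 𝓘 i j).ι ≫ cm 𝓘 i) = ⊤ :=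
  gen_eq_top_of_range 𝓘 j (cart_cm 𝓘 i) _ (cart_openImm 𝓘 (cart_cm 𝓘 i) _) fun p => p.2

/-- Lift to an overlap. -/
noncomputable def liftOv (g : W ⟶ X) (hc : BlowUp.IsEffCartierIdeal (𝓘.comap g)) (j k : Idx 𝓘)
    (hj : gen 𝓘 j g = ⊤) (hk : gen 𝓘 k g = ⊤) : W ⟶ (ov 𝓘 j k).toScheme :=
  IsOpenImmersion.lift (ov 𝓘 j k).ι (liftTo 𝓘 g j hj) (by
    rw [Scheme.Opens.range_ι]
    rintro _ ⟨w, rfl⟩
    exact liftTo_mem 𝓘 g hc k j hj w (hk.ge trivial))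

@[reassoc (attr := simp)]
theorem liftOv_ι (g : W ⟶ X) (hc : BlowUp.IsEffCartierIdeal (𝓘.comap g)) (j k : Idx 𝓘)
    (hj : gen 𝓘 j g = ⊤) (hk : gen 𝓘 k g = ⊤) : liftOv 𝓘 g hc j k hj hk ≫ (ov 𝓘 j k).ι = liftTo 𝓘 g j hj :=
  IsOpenImmersion.lift_fac _ _ _

theorem isIso_ov_self (i : Idx 𝓘) : IsIso (ov 𝓘 i i).ι := by
  rw [ov, gen, chartOpen_chartMap i.2.2]
  rw [isIso_iff_isOpenImmersion_and_surjective]
  exact ⟨inferInstance, ⟨fun x => ⟨⟨x, trivial⟩, rfl⟩⟩⟩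

/-- The structure map of a triple overlap. -/
noncomputable abbrev tri (i j k : Idx 𝓘) : pullback (ov 𝓘 i j).ι (ov 𝓘 i k).ι ⟶ X :=
  pullback.fst _ _ ≫ (ov 𝓘 i j).ι ≫ cm 𝓘 i

theorem cart_tri (i j k : Idx 𝓘) : BlowUp.IsEffCartierIdeal (𝓘.comap (tri 𝓘 i j k)) :=
  cart_openImm 𝓘 (cart_openImm 𝓘 (cart_cm 𝓘 i) _) _

theorem gen_tri_fst (i j k : Idx 𝓘) : gen 𝓘 i (tri 𝓘 i j k) = ⊤ :=
  gen_eq_top_of_range 𝓘 i (cart_openImm 𝓘 (cart_cm 𝓘 i) _) _ (cart_tri 𝓘 i j k) fun _ => (gen_ov_self 𝓘 i j).ge trivial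

theorem gen_tri_snd (i j k : Idx 𝓘) : gen 𝓘 j (tri 𝓘 i j k) = ⊤ :=
  gen_eq_top_of_range 𝓘 j (cart_openImm 𝓘 (cart_cm 𝓘 i) _) _ (cart_tri 𝓘 i j k) fun _ => (gen_ov_other 𝓘 i j).ge trivial

theorem gen_tri_thd (i j k : Idx 𝓘) : gen 𝓘 k (tri 𝓘 i j k) = ⊤ := by
  have h : tri 𝓘 i j k = pullback.snd _ _ ≫ (ov 𝓘 i k).ι ≫ cm 𝓘 i := by
    simp only [tri, ← Category.assoc, pullback.condition]
  have hc := cart_tri 𝓘 i j k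
  rw [h] at hc ⊢
  exact gen_eq_top_of_range 𝓘 k (cart_openImm 𝓘 (cart_cm 𝓘 i) _) _ hc fun _ => (gen_ov_other 𝓘 i k).ge trivial

/-- The transition maps. -/
noncomputable def tMap (i j : Idx 𝓘) : (ov 𝓘 i j).toScheme ⟶ (ov 𝓘 j i).toScheme :=
  liftOv 𝓘 _ (cart_openImm 𝓘 (cart_cm 𝓘 i) _) j i (gen_ov_other 𝓘 i j) (gen_ov_self 𝓘 i j)

@[reassoc (attr := simp)]
theorem tMap_ι_cm (i j : Idx 𝓘) : tMap 𝓘 i j ≫ (ov 𝓘 j i).ι ≫ cm 𝓘 j = (ov 𝓘 i j).ι ≫ cm 𝓘 i := by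
  rw [tMap, liftOv_ι_assoc, liftTo_cm]

/-- The cocycle maps. -/
noncomputable def tMap' (i j k : Idx 𝓘) :
    pullback (ov 𝓘 i j).ι (ov 𝓘 i k).ι ⟶ pullback (ov 𝓘 j k).ι (ov 𝓘 j i).ι :=
  pullback.lift (liftOv 𝓘 _ (cart_tri 𝓘 i j k) j k (gen_tri_snd 𝓘 i j k) (gen_tri_thd 𝓘 i j k))
    (liftOv 𝓘 _ (cart_tri 𝓘 i j k) j i (gen_tri_snd 𝓘 i j k) (gen_tri_fst 𝓘 i j k))
    (by rw [liftOv_ι, liftOv_ι])

@[reassoc]
theorem tMap'_tri (i j k : Idx 𝓘) : tMap' 𝓘 i j k ≫ tri 𝓘 j k i = tri 𝓘 i j k := by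
  show tMap' 𝓘 i j k ≫ pullback.fst _ _ ≫ (ov 𝓘 j k).ι ≫ cm 𝓘 j = _
  rw [tMap', pullback.lift_fst_assoc, liftOv_ι_assoc, liftTo_cm]

theorem tri_hom_ext {P : Scheme.{u}} {i j k : Idx 𝓘} {m m' : P ⟶ pullback (ov 𝓘 i j).ι (ov 𝓘 i k).ι} (g : P ⟶ X)
    (hc : BlowUp.IsEffCartierIdeal (𝓘.comap g)) (h : m ≫ tri 𝓘 i j k = g) (h' : m' ≫ tri 𝓘 i j k = g) : m = m' := by
  haveI : Mono (pullback.fst (ov 𝓘 i j).ι (ov 𝓘 i k).ι) := inferInstance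
  rw [← cancel_mono (pullback.fst (ov 𝓘 i j).ι (ov 𝓘 i k).ι), ← cancel_mono (ov 𝓘 i j).ι]
  refine hom_ext_cm 𝓘 g hc ?_ ?_ <;> simp only [Category.assoc] <;> assumption

/-- The gluing datum of the blow-up. -/
noncomputable def glueData : Scheme.GlueData.{u} where
  J := Idx 𝓘
  U := Z 𝓘
  V p := (ov 𝓘 p.1 p.2).toScheme
  f i j := (ov 𝓘 i j).ι
  f_open i j := inferInstance
  f_mono i j := inferInstance
  f_hasPullback i j k := inferInstance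
  f_id i := isIso_ov_self 𝓘 i
  t i j := tMap 𝓘 i j
  t_id i := by
    rw [← cancel_mono (ov 𝓘 i i).ι]
    refine hom_ext_cm 𝓘 _ (cart_openImm 𝓘 (cart_cm 𝓘 i) (ov 𝓘 i i).ι) ?_ ?_
    · rw [Category.assoc, tMap_ι_cm]
    · rw [Category.id_comp]
  t' := tMap' 𝓘
  t_fac i j k := by
    rw [← cancel_mono (ov 𝓘 j i).ι]
    refine hom_ext_cm 𝓘 _ (cart_tri 𝓘 i j k) ?_ ?_
    · rw [tMap', pullback.lift_snd, liftOv_ι, liftTo_cm]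
    · simp only [Category.assoc, tMap_ι_cm, tri]
  cocycle i j k := by
    refine tri_hom_ext 𝓘 _ (cart_tri 𝓘 i j k) ?_ (Category.id_comp _)
    simp only [Category.assoc, tMap'_tri]

/-- The blow-up. -/
noncomputable def blowUp : Scheme.{u} := (glueData 𝓘).glued

/-- The chart of the blow-up. -/
noncomputable def blι (i : Idx 𝓘) : Z 𝓘 i ⟶ blowUp 𝓘 := (glueData 𝓘).ι i

instance blι_isOpenImmersion (i : Idx 𝓘) : IsOpenImmersion (blι 𝓘 i) :=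
  inferInstanceAs (IsOpenImmersion ((glueData 𝓘).ι i))

theorem blι_jointly_surjective (x : blowUp 𝓘) : ∃ (i : Idx 𝓘) (z : Z 𝓘 i), blι 𝓘 i z = x :=
  (glueData 𝓘).ι_jointly_surjective x

theorem blι_glue (i j : Idx 𝓘) : tMap 𝓘 i j ≫ (ov 𝓘 j i).ι ≫ blι 𝓘 j = (ov 𝓘 i j).ι ≫ blι 𝓘 i :=
  (glueData 𝓘).glue_condition i j

/-- The structure map of the blow-up. -/
noncomputable def blMap : blowUp 𝓘 ⟶ X :=
  Multicoequalizer.desc (glueData 𝓘).diagram _ (fun i => cm 𝓘 i) (fun ⟨i, j⟩ => by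
    show (ov 𝓘 i j).ι ≫ cm 𝓘 i = (tMap 𝓘 i j ≫ (ov 𝓘 j i).ι) ≫ cm 𝓘 j
    rw [Category.assoc, tMap_ι_cm])

@[reassoc (attr := simp)]
theorem blι_blMap (i : Idx 𝓘) : blι 𝓘 i ≫ blMap 𝓘 = cm 𝓘 i := by
  delta blι blMap
  exact Multicoequalizer.π_desc (glueData 𝓘).diagram _ (fun i => cm 𝓘 i) _ i

theorem cart_blMap : BlowUp.IsEffCartierIdeal (𝓘.comap (blMap 𝓘)) :=
  BlowProdLib.isEffCartier_of_local _ fun x => by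
    obtain ⟨i, z, hz⟩ := blι_jointly_surjective 𝓘 x
    refine ⟨_, blι 𝓘 i, inferInstance, z, hz, ?_⟩
    rw [← Scheme.IdealSheafData.comap_comp, blι_blMap]
    exact cart_cm 𝓘 i

theorem mem_range_of_gen (i : Idx 𝓘) {x : blowUp 𝓘} (hx : x ∈ gen 𝓘 i (blMap 𝓘)) :
    x ∈ Set.range (blι 𝓘 i) := by
  obtain ⟨j, z, rfl⟩ := blι_jointly_surjective 𝓘 x
  have hz : z ∈ blι 𝓘 j ⁻¹ᵁ gen 𝓘 i (blMap 𝓘) := hx
  rw [gen, preimage_chartOpen _ _ (cart_blMap 𝓘) (by rw [blι_blMap]; exact cart_cm 𝓘 j) i.2.2, blι_blMap] at hz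
  refine ⟨(ov 𝓘 i j).ι (tMap 𝓘 j i ⟨z, hz⟩), ?_⟩
  exact congrArg (fun m : (ov 𝓘 j i).toScheme ⟶ blowUp 𝓘 => m ⟨z, hz⟩) (blι_glue 𝓘 j i)

theorem exists_idx {g : W ⟶ X} (hc : BlowUp.IsEffCartierIdeal (𝓘.comap g)) (w : W) : ∃ i : Idx 𝓘, w ∈ gen 𝓘 i g := by
  obtain ⟨_, ⟨U : X.Opens, hU, rfl⟩, hwU, -⟩ :=
    X.isBasis_affineOpens.exists_subset_of_mem_open (Set.mem_univ (g w)) isOpen_univ
  obtain ⟨a, ha, hw⟩ := exists_mem_chartOpen hc (U := ⟨U, hU⟩) _ (Ideal.span_eq (𝓘.ideal ⟨U, hU⟩)) w hwU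
  exact ⟨⟨⟨U, hU⟩, a, ha⟩, hw⟩

theorem existsUnique_lift {g : W ⟶ X} (hc : BlowUp.IsEffCartierIdeal (𝓘.comap g)) :
    ∃! h : W ⟶ blowUp 𝓘, h ≫ blMap 𝓘 = g := by
  let 𝒰 := W.openCoverOfIsOpenCover (fun i : Idx 𝓘 => gen 𝓘 i g)
    (TopologicalSpace.IsOpenCover.mk (top_le_iff.1 fun w _ => TopologicalSpace.Opens.mem_iSup.2 (exists_idx 𝓘 hc w)))
  have htop : ∀ i, gen 𝓘 i ((gen 𝓘 i g).ι ≫ g) = ⊤ := fun i =>
    gen_eq_top_of_range 𝓘 i hc _ (cart_openImm 𝓘 hc _) fun p => p.2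
  let m : ∀ i, 𝒰.X i ⟶ blowUp 𝓘 := fun i => liftTo 𝓘 ((gen 𝓘 i g).ι ≫ g) i (htop i) ≫ blι 𝓘 i
  have hm : ∀ i j, pullback.fst (𝒰.f i) (𝒰.f j) ≫ m i = pullback.snd (𝒰.f i) (𝒰.f j) ≫ m j := by
    intro i j
    let q : pullback (gen 𝓘 i g).ι (gen 𝓘 j g).ι ⟶ W := pullback.fst _ _ ≫ (gen 𝓘 i g).ι
    have hq : q = pullback.snd _ _ ≫ (gen 𝓘 j g).ι := pullback.condition
    have hcq := cart_openImm 𝓘 hc q
    have hi : gen 𝓘 i (q ≫ g) = ⊤ := gen_eq_top_of_range 𝓘 i hc q hcq fun p => by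
      simp only [q, Scheme.Hom.comp_apply]
      exact (pullback.fst (gen 𝓘 i g).ι (gen 𝓘 j g).ι p).2
    have hj : gen 𝓘 j (q ≫ g) = ⊤ := gen_eq_top_of_range 𝓘 j hc q hcq fun p => by
      simp only [hq, Scheme.Hom.comp_apply]
      exact (pullback.snd (gen 𝓘 i g).ι (gen 𝓘 j g).ι p).2
    have e1 : pullback.fst (gen 𝓘 i g).ι (gen 𝓘 j g).ι ≫ liftTo 𝓘 ((gen 𝓘 i g).ι ≫ g) i (htop i) =
        liftOv 𝓘 _ hcq i j hi hj ≫ (ov 𝓘 i j).ι := by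
      refine hom_ext_cm 𝓘 _ hcq ?_ ?_
      · rw [Category.assoc, liftTo_cm, Category.assoc]
      · rw [liftOv_ι, liftTo_cm]
    have e2 : pullback.snd (gen 𝓘 i g).ι (gen 𝓘 j g).ι ≫ liftTo 𝓘 ((gen 𝓘 j g).ι ≫ g) j (htop j) =
        liftOv 𝓘 _ hcq i j hi hj ≫ tMap 𝓘 i j ≫ (ov 𝓘 j i).ι := by
      refine hom_ext_cm 𝓘 _ hcq ?_ ?_
      · rw [Category.assoc, liftTo_cm, hq, Category.assoc]
      · simp only [Category.assoc, tMap_ι_cm, liftOv_ι_assoc, liftTo_cm]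
    show pullback.fst (gen 𝓘 i g).ι (gen 𝓘 j g).ι ≫ liftTo 𝓘 _ i (htop i) ≫ blι 𝓘 i =
      pullback.snd (gen 𝓘 i g).ι (gen 𝓘 j g).ι ≫ liftTo 𝓘 _ j (htop j) ≫ blι 𝓘 j
    rw [reassoc_of% e1, reassoc_of% e2, blι_glue]
  refine ⟨𝒰.glueMorphisms m hm, ?_, fun h hh => ?_⟩
  · refine Scheme.Cover.hom_ext 𝒰 _ _ fun i => ?_
    rw [Scheme.Cover.ι_glueMorphisms_assoc]
    show (liftTo 𝓘 _ i (htop i) ≫ blι 𝓘 i) ≫ blMap 𝓘 = (gen 𝓘 i g).ι ≫ g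
    rw [Category.assoc, blι_blMap, liftTo_cm]
  · refine Scheme.Cover.hom_ext 𝒰 _ _ fun i => ?_
    rw [Scheme.Cover.ι_glueMorphisms]
    show (gen 𝓘 i g).ι ≫ h = liftTo 𝓘 _ i (htop i) ≫ blι 𝓘 i
    have hr : Set.range ((gen 𝓘 i g).ι ≫ h) ⊆ Set.range (blι 𝓘 i) := by
      rintro _ ⟨p, rfl⟩
      refine mem_range_of_gen 𝓘 i ?_
      have hp : (gen 𝓘 i g).ι p ∈ gen 𝓘 i (h ≫ blMap 𝓘) := by rw [hh]; exact p.2
      rw [gen, ← preimage_chartOpen h (blMap 𝓘) (cart_blMap 𝓘) (by rw [hh]; exact hc) i.2.2] at hp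
      rw [Scheme.Hom.comp_apply]
      exact hp
    have hl := IsOpenImmersion.lift_fac (blι 𝓘 i) ((gen 𝓘 i g).ι ≫ h) hr
    rw [← hl]
    congr 1
    refine hom_ext_cm 𝓘 _ (cart_openImm 𝓘 hc (gen 𝓘 i g).ι) ?_ (liftTo_cm _ _ _ _)
    rw [← blι_blMap, reassoc_of% hl, hh]

theorem isBlowUp_blMap : BlowUp.IsBlowUp (blMap 𝓘) 𝓘 :=
  ⟨cart_blMap 𝓘, fun _ _ hc => existsUnique_lift 𝓘 hc⟩

theorem exists_isBlowUp : ∃ (X' : Scheme.{u}) (b : X' ⟶ X), BlowUp.IsBlowUp b 𝓘 :=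
  ⟨_, _, isBlowUp_blMap 𝓘⟩

end Groth.Agent.BlowExistsLib
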