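import Mathlib
import Groth.Agent.BlowExistsLib.Chart

/-!
A blow-up in a centre of finite type is proper.
-/

set_option autoImplicit false
set_option backward.isDefEq.respectTransparency false
set_option backward.isDefEq.respectTransparency.types false
set_option backward.defeqAttrib.useBackward true
set_option linter.style.haveILetI false
set_option maxHeartbeats 800000

universe u

open CategoryTheory CategoryTheory.Limits AlgebraicGeometry

namespace Groth.Agent.BlowExistsLib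

open BlowChartLib

variable {X X' : Scheme.{u}} {𝓘 : X.IdealSheafData} {b : X' ⟶ X} (hb : BlowUp.IsBlowUp b 𝓘)
variable {U : X.affineOpens} {a c : Γ(X, U.1)}

/-- The chart as an open piece of a blow-up. -/
noncomputable def emb (ha : a ∈ 𝓘.ideal U) : Spec (CommRingCat.of (ChartAlg 𝓘 U a)) ⟶ X' :=
  (isOpenImmersion_hom 𝓘 U a b ha hb).choose.inv ≫ (chartOpen 𝓘 U a b).ι

instance emb_isOpenImmersion (ha : a ∈ 𝓘.ideal U) : IsOpenImmersion (emb hb ha) := by
  delta emb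
  infer_instance

@[reassoc]
theorem emb_comp (ha : a ∈ 𝓘.ideal U) : emb hb ha ≫ b = chartMap 𝓘 U a := by
  delta emb
  rw [Category.assoc]
  exact (congrArg ((isOpenImmersion_hom 𝓘 U a b ha hb).choose.inv ≫ ·)
    (isOpenImmersion_hom 𝓘 U a b ha hb).choose_spec.symm).trans (Iso.inv_hom_id_assoc _ _)

theorem opensRange_emb (ha : a ∈ 𝓘.ideal U) : (emb hb ha).opensRange = chartOpen 𝓘 U a b := by
  delta emb
  rw [Scheme.Hom.opensRange_comp_of_isIso, Scheme.Opens.opensRange_ι]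

include hb in
theorem isAffineOpen_chartOpen (ha : a ∈ 𝓘.ideal U) : IsAffineOpen (chartOpen 𝓘 U a b) := by
  rw [← opensRange_emb hb ha]
  exact isAffineOpen_opensRange _

theorem map_alg_eq (A : Type u) [CommRing A] (φ : ChartAlg 𝓘 U a →+* A) (ha : a ∈ 𝓘.ideal U) :
    Spec.map (CommRingCat.ofHom φ) ≫ emb hb ha ≫ b =
      Spec.map (CommRingCat.ofHom (φ.comp (algebraMap Γ(X, U.1) (ChartAlg 𝓘 U a)))) ≫ U.2.fromSpec := by
  rw [emb_comp, chartMap, ← Category.assoc, ← Spec.map_comp]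
  rfl

/-- Change of chart. -/
theorem exists_change (ha : a ∈ 𝓘.ideal U) (hc : c ∈ 𝓘.ideal U) {T : Type u} [CommRing T]
    (φ : ChartAlg 𝓘 U a →+* T) (hu : IsUnit (φ (frac c hc))) :
    ∃ φ' : ChartAlg 𝓘 U c →+* T,
      φ'.comp (algebraMap Γ(X, U.1) _) = φ.comp (algebraMap Γ(X, U.1) _) ∧
      (∀ x (hx : x ∈ 𝓘.ideal U), φ' (frac x hx) * φ (frac c hc) = φ (frac x hx)) ∧
      Spec.map (CommRingCat.ofHom φ) ≫ emb hb ha = Spec.map (CommRingCat.ofHom φ') ≫ emb hb hc := by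
  let r : ChartAlg 𝓘 U a := frac c hc
  let T₀ := Localization.Away r
  let φ₀ : ChartAlg 𝓘 U a →+* T₀ := algebraMap _ T₀
  let ψ₀ : Γ(X, U.1) →+* T₀ := φ₀.comp (algebraMap Γ(X, U.1) _)
  have hr : IsUnit (φ₀ r) := IsLocalization.Away.algebraMap_isUnit r
  have hx₀ : ∀ x (hx : x ∈ 𝓘.ideal U), φ₀ (frac x hx) * ψ₀ a = ψ₀ x := fun x hx => by
    exact (φ₀.map_mul _ _).symm.trans (congrArg φ₀ (frac_mul x hx))
  have hna : ψ₀ a ∈ nonZeroDivisors T₀ :=
    IsLocalization.map_nonZeroDivisors_le (Submonoid.powers r) T₀ ⟨_, BlowChartLib.mem_nonZeroDivisors, rfl⟩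
  have hn : ψ₀ c ∈ nonZeroDivisors T₀ := by
    rw [← hx₀ c hc]
    exact mul_mem hr.mem_nonZeroDivisors hna
  have hI : (𝓘.ideal U).map ψ₀ ≤ Ideal.span {ψ₀ c} := Ideal.map_le_iff_le_comap.2 fun x hx => by
    rw [Ideal.mem_comap, ← hx₀ x hx, ← hx₀ c hc, Ideal.span_singleton_mul_left_unit hr]
    exact Ideal.mem_span_singleton'.2 ⟨φ₀ (frac x hx), rfl⟩
  obtain ⟨φ₀', hφ₀'⟩ := exists_hom (I := 𝓘.ideal U) ψ₀ hn hI
  have hrel : ∀ x (hx : x ∈ 𝓘.ideal U), φ₀' (frac x hx) * φ₀ r = φ₀ (frac x hx) := fun x hx => by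
    refine (mul_cancel_right_mem_nonZeroDivisors hna).1 ?_
    rw [mul_assoc, hx₀, hx₀, ← RingHom.congr_fun hφ₀' c, ← RingHom.congr_fun hφ₀' x, RingHom.comp_apply,
      RingHom.comp_apply, ← map_mul, frac_mul]
  haveI : IsOpenImmersion (Spec.map (CommRingCat.ofHom φ₀)) := IsOpenImmersion.of_isLocalization r
  have hcart : BlowUp.IsEffCartierIdeal (𝓘.comap (Spec.map (CommRingCat.ofHom φ₀) ≫ emb hb ha ≫ b)) := by
    rw [emb_comp, Scheme.IdealSheafData.comap_comp]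
    exact BlowCompLib.isEffCartier_comap_openImmersion (isEffCartier_chartMap 𝓘 U a ha) _
  have h0 : Spec.map (CommRingCat.ofHom φ₀) ≫ emb hb ha = Spec.map (CommRingCat.ofHom φ₀') ≫ emb hb hc := by
    obtain ⟨w, -, hw⟩ := hb.2 _ _ hcart
    rw [hw (Spec.map (CommRingCat.ofHom φ₀) ≫ emb hb ha) (Category.assoc _ _ _),
      hw (Spec.map (CommRingCat.ofHom φ₀') ≫ emb hb hc) (by
        show (Spec.map (CommRingCat.ofHom φ₀') ≫ emb hb hc) ≫ b = _
        rw [Category.assoc, map_alg_eq hb, map_alg_eq hb, hφ₀'])]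
  let χ : T₀ →+* T := IsLocalization.Away.lift r (g := φ) hu
  have hχ : χ.comp φ₀ = φ := IsLocalization.Away.lift_comp r hu
  refine ⟨χ.comp φ₀', by rw [RingHom.comp_assoc, hφ₀', ← RingHom.comp_assoc, hχ], fun x hx => ?_, ?_⟩
  · rw [← RingHom.congr_fun hχ (frac c hc), ← RingHom.congr_fun hχ (frac x hx), RingHom.comp_apply, RingHom.comp_apply,
      RingHom.comp_apply, ← map_mul, hrel]
  · conv_lhs => rw [← hχ, CommRingCat.ofHom_comp, Spec.map_comp, Category.assoc, h0]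
    rw [CommRingCat.ofHom_comp, Spec.map_comp, Category.assoc]

/-- A point of a chart lies in another chart exactly off the zero locus of the fraction. -/
theorem preimage_range_emb (ha : a ∈ 𝓘.ideal U) (hc : c ∈ 𝓘.ideal U) (z : Spec (CommRingCat.of (ChartAlg 𝓘 U a))) :
    emb hb ha z ∈ chartOpen 𝓘 U c b ↔ frac c hc ∉ z.asIdeal := by
  constructor
  · intro hz
    have hz' : z ∈ emb hb ha ⁻¹ᵁ chartOpen 𝓘 U c b := hz
    have hcc := isEffCartier_chartMap 𝓘 U a ha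
    rw [preimage_chartOpen _ _ hb.1 (by rw [emb_comp]; exact hcc) hc, emb_comp] at hz'
    obtain ⟨hU, hsc⟩ := stalk_generated hz'
    obtain ⟨_, hsa⟩ := stalk_generated ((chartOpen_chartMap (𝓘 := 𝓘) ha).ge (show z ∈ (⊤ : TopologicalSpace.Opens _) from trivial))
    let P := Spec (CommRingCat.of (ChartAlg 𝓘 U a))
    let ge := (P.presheaf.germ ⊤ z trivial).hom
    let si := (Scheme.ΓSpecIso (CommRingCat.of (ChartAlg 𝓘 U a))).inv.hom
    have hg : ∀ x, gerA (chartMap 𝓘 U a) z hU x = ge (si (algebraMap Γ(X, U.1) _ x)) := fun x => by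
      rw [← gerA_eq (chartMap 𝓘 U a) x (le_preimage_chartMap 𝓘 U a) z trivial, appLE_chartMap]
    rw [hg] at hsc hsa
    have hna := generator_mem_nonZeroDivisors hcc z hsa
    rw [hsc, ← frac_mul (a := a) c hc, map_mul, map_mul] at hsa
    have hu := isUnit_of_span_eq hna (hsa.ge (Ideal.mem_span_singleton_self _))
    have hz2 : z ∈ P.basicOpen (si (frac c hc)) := (P.mem_basicOpen_top _ _).2 hu
    rw [basicOpen_eq_of_affine] at hz2
    exact hz2
  · intro hz
    obtain ⟨φ', -, -, he⟩ := exists_change hb ha hc (algebraMap _ (Localization.Away (frac (a := a) c hc)))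
      (IsLocalization.Away.algebraMap_isUnit (R := ChartAlg 𝓘 U a) (S := Localization.Away (frac (a := a) c hc)) (frac (a := a) c hc))
    obtain ⟨w, hw⟩ : z ∈ Set.range (PrimeSpectrum.comap (algebraMap (ChartAlg 𝓘 U a) (Localization.Away (frac (a := a) c hc)))) := by
      rw [PrimeSpectrum.localization_away_comap_range (Localization.Away (frac (a := a) c hc)) (frac (a := a) c hc)]
      exact hz
    have h1 : emb hb hc (Spec.map (CommRingCat.ofHom φ') w) = emb hb ha z := by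
      rw [← Scheme.Hom.comp_apply, ← he, Scheme.Hom.comp_apply, ← hw]
      rfl
    rw [← h1, ← opensRange_emb hb hc]
    exact ⟨_, rfl⟩

theorem inf_chartOpen (ha : a ∈ 𝓘.ideal U) (hc : c ∈ 𝓘.ideal U) :
    chartOpen 𝓘 U a b ⊓ chartOpen 𝓘 U c b =
      emb hb ha ''ᵁ PrimeSpectrum.basicOpen (frac (a := a) c hc) := by
  ext x
  constructor
  · rintro ⟨hxa, hxc⟩
    rw [← opensRange_emb hb ha] at hxa
    obtain ⟨z, rfl⟩ := hxa
    exact ⟨z, (preimage_range_emb hb ha hc z).1 hxc, rfl⟩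
  · rintro ⟨z, hz, rfl⟩
    exact ⟨by rw [← opensRange_emb hb ha]; exact ⟨z, rfl⟩, (preimage_range_emb hb ha hc z).2 hz⟩

theorem chart_finiteType (hI : (𝓘.ideal U).FG) : Algebra.FiniteType Γ(X, U.1) (ChartAlg 𝓘 U a) := by
  obtain ⟨s, hs⟩ := hI
  have hsI : ∀ i : s, (i : Γ(X, U.1)) ∈ 𝓘.ideal U := fun i => hs ▸ Ideal.subset_span i.2
  let S := Algebra.adjoin Γ(X, U.1) (Set.range fun i : s => frac (a := a) (i : Γ(X, U.1)) (hsI i))
  refine ⟨⟨(Set.finite_range fun i : s => frac (a := a) (i : Γ(X, U.1)) (hsI i)).toFinset, top_le_iff.1 fun z _ => ?_⟩⟩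
  rw [Set.Finite.coe_toFinset]
  refine induction_frac (P := fun z => z ∈ S) (fun r => S.algebraMap_mem r) (fun x hx => ?_)
    (fun _ _ => add_mem) (fun _ _ => mul_mem) z
  obtain ⟨f, -, hf⟩ := Submodule.mem_span_finset.1 (show x ∈ Submodule.span Γ(X, U.1) (s : Set Γ(X, U.1)) from hs.ge hx)
  rw [frac_linear (fun i : s => f i) (fun i : s => (i : Γ(X, U.1))) hsI x hx
    (by rw [← hf, ← Finset.sum_coe_sort s]; rfl)]
  exact sum_mem fun i _ => mul_mem (S.algebraMap_mem _) (Algebra.subset_adjoin ⟨i, rfl⟩)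

include hb in
theorem iSup_chartOpen {U : X.affineOpens} (s : Finset Γ(X, U.1)) (hs : Ideal.span (s : Set Γ(X, U.1)) = 𝓘.ideal U) :
    ⨆ i : s, chartOpen 𝓘 U (i : Γ(X, U.1)) b = b ⁻¹ᵁ U.1 := by
  refine le_antisymm (iSup_le fun i => chartOpen_le_preimage b) fun x hx => ?_
  obtain ⟨a, ha, hxa⟩ := exists_mem_chartOpen hb.1 _ hs x hx
  exact TopologicalSpace.Opens.mem_iSup.2 ⟨⟨a, ha⟩, hxa⟩

include hb in
theorem quasiCompact_of_FG (hft : BlowUp.IsFiniteTypeIdeal 𝓘) : QuasiCompact b := by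
  refine quasiCompact_iff_forall_isAffineOpen.2 fun U hU => ?_
  obtain ⟨s, hs⟩ := hft ⟨U, hU⟩
  rw [← iSup_chartOpen hb (U := ⟨U, hU⟩) s hs, TopologicalSpace.Opens.coe_iSup]
  exact isCompact_iUnion fun i => (isAffineOpen_chartOpen hb (hs ▸ Ideal.subset_span i.2)).isCompact

include hb in
theorem quasiSeparated_of_FG (hft : BlowUp.IsFiniteTypeIdeal 𝓘) : QuasiSeparated b := by
  refine (IsZariskiLocalAtTarget.iff_of_iSup_eq_top (P := @QuasiSeparated) (fun U : X.affineOpens => U.1)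
    (iSup_affineOpens_eq_top X)).2 fun U => ?_
  haveI : IsAffine U.1 := U.2
  rw [HasAffineProperty.iff_of_isAffine (P := @QuasiSeparated)]
  obtain ⟨s, hs⟩ := hft U
  have hsI : ∀ i : s, (i : Γ(X, U.1)) ∈ 𝓘.ideal U := fun i => hs ▸ Ideal.subset_span i.2
  let ι := (b ⁻¹ᵁ U.1).ι
  refine Scheme.quasiSeparatedSpace_of_isOpenCover (fun i : s => ι ⁻¹ᵁ chartOpen 𝓘 U (i : Γ(X, U.1)) b)
    (TopologicalSpace.IsOpenCover.mk (top_le_iff.1 fun x _ => ?_)) (fun i => ?_) (fun i j => ?_)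
  · obtain ⟨a, ha, hxa⟩ := exists_mem_chartOpen hb.1 _ hs (ι x) x.2
    exact TopologicalSpace.Opens.mem_iSup.2 ⟨⟨a, ha⟩, hxa⟩
  · exact (isAffineOpen_chartOpen hb (hsI i)).preimage_of_isOpenImmersion ι
      (by rw [Scheme.Opens.opensRange_ι]; exact chartOpen_le_preimage b)
  · have h := inf_chartOpen hb (hsI i) (hsI j)
    rw [ι.isOpenEmbedding.isCompact_iff]
    have h2 : ι '' ((ι ⁻¹ᵁ chartOpen 𝓘 U (i : Γ(X, U.1)) b : Set _) ∩ (ι ⁻¹ᵁ chartOpen 𝓘 U (j : Γ(X, U.1)) b : Set _)) =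
        ↑(chartOpen 𝓘 U (i : Γ(X, U.1)) b ⊓ chartOpen 𝓘 U (j : Γ(X, U.1)) b) := by
      ext x
      constructor
      · rintro ⟨y, ⟨h1, h2⟩, rfl⟩
        exact ⟨h1, h2⟩
      · rintro ⟨h1, h2⟩
        exact ⟨⟨x, chartOpen_le_preimage b h1⟩, ⟨h1, h2⟩, rfl⟩
    rw [h2, h]
    exact (PrimeSpectrum.isCompact_basicOpen _).image (emb hb (hsI i)).continuous

include hb in
theorem locallyOfFiniteType_of_FG (hft : BlowUp.IsFiniteTypeIdeal 𝓘) : LocallyOfFiniteType b := by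
  refine IsZariskiLocalAtSource.of_openCover (X'.openCoverOfIsOpenCover
    (fun p : Σ U : X.affineOpens, {a : Γ(X, U.1) // a ∈ 𝓘.ideal U} => chartOpen 𝓘 p.1 p.2.1 b)
    (TopologicalSpace.IsOpenCover.mk (top_le_iff.1 fun x _ => ?_))) fun p => ?_
  · obtain ⟨_, ⟨U : X.Opens, hU, rfl⟩, hxU, -⟩ :=
      X.isBasis_affineOpens.exists_subset_of_mem_open (Set.mem_univ (b x)) isOpen_univ
    obtain ⟨a, ha, hxa⟩ := exists_mem_chartOpen hb.1 (U := ⟨U, hU⟩) _ (Ideal.span_eq (𝓘.ideal ⟨U, hU⟩)) x hxU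
    exact TopologicalSpace.Opens.mem_iSup.2 ⟨⟨⟨U, hU⟩, a, ha⟩, hxa⟩
  · obtain ⟨e, he⟩ := isOpenImmersion_hom 𝓘 p.1 p.2.1 b p.2.2 hb
    show LocallyOfFiniteType ((chartOpen 𝓘 p.1 p.2.1 b).ι ≫ b)
    rw [← he]
    haveI : LocallyOfFiniteType (Spec.map (CommRingCat.ofHom (algebraMap Γ(X, p.1.1) (ChartAlg 𝓘 p.1 p.2.1)))) := by
      rw [HasRingHomProperty.Spec_iff (P := @LocallyOfFiniteType)]
      exact RingHom.finiteType_algebraMap.2 (chart_finiteType (hft p.1))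
    delta chartMap
    infer_instance

section valuative

variable {R K : Type u} [CommRing R] [IsDomain R] [ValuationRing R] [Field K] [Algebra R K] [IsFractionRing R K]

theorem exists_max_of_valuationRing {ι : Type*} [Fintype ι] (f : ι → K) (h : ∃ i, f i ≠ 0) :
    ∃ j, f j ≠ 0 ∧ ∀ i, ∃ r : R, algebraMap R K r * f j = f i := by
  obtain ⟨i₀, hi₀⟩ := h
  haveI : Nonempty ι := ⟨i₀⟩
  obtain ⟨j, -, hj⟩ := Finset.exists_max_image Finset.univ (fun i => ValuationRing.valuation R K (f i)) Finset.univ_nonempty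
  have hj0 : f j ≠ 0 := fun h0 => hi₀ ((ValuationRing.valuation R K).zero_iff.1
    (le_antisymm (by simpa [h0] using hj i₀ (Finset.mem_univ _)) zero_le))
  refine ⟨j, hj0, fun i => ?_⟩
  obtain ⟨r, hr⟩ := (ValuationRing.mem_integer_iff R K (f i * (f j)⁻¹)).1 (by
    rw [Valuation.mem_integer_iff, map_mul, map_inv₀]
    exact mul_inv_le_one_of_le₀ (hj i (Finset.mem_univ _)) zero_le)
  exact ⟨r, by rw [hr, mul_assoc, inv_mul_cancel₀ hj0, mul_one]⟩

end valuative

include hb in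
theorem existence_of_FG (hft : BlowUp.IsFiniteTypeIdeal 𝓘) : ValuativeCriterion.Existence b := by
  intro S
  let p₀ : Spec (CommRingCat.of S.R) := IsLocalRing.closedPoint S.R
  obtain ⟨_, ⟨U : X.Opens, hU, rfl⟩, hpU, -⟩ :=
    X.isBasis_affineOpens.exists_subset_of_mem_open (Set.mem_univ (S.i₂ p₀)) isOpen_univ
  have hU' : S.i₂ ⁻¹ᵁ U = ⊤ := Scheme.preimage_eq_top_of_closedPoint_mem S.i₂ hpU
  let U' : X.affineOpens := ⟨U, hU⟩
  obtain ⟨ψ, hψ⟩ : ∃ ψ : Γ(X, U'.1) →+* S.R, Spec.map (CommRingCat.ofHom ψ) ≫ U'.2.fromSpec = S.i₂ := by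
    let l := IsOpenImmersion.lift hU.fromSpec S.i₂ (by
      rw [hU.range_fromSpec]; rintro _ ⟨y, rfl⟩; exact hU'.ge trivial)
    obtain ⟨q, hq⟩ := Spec.map_surjective l
    exact ⟨q.hom, by rw [show CommRingCat.ofHom q.hom = q from rfl, hq]; exact IsOpenImmersion.lift_fac _ _ _⟩
  obtain ⟨s, hs⟩ := hft U'
  have hsI : ∀ i : s, (i : Γ(X, U'.1)) ∈ 𝓘.ideal U' := fun i => hs ▸ Ideal.subset_span i.2
  let k : Spec (CommRingCat.of S.K) := IsLocalRing.closedPoint S.K
  have hk : b (S.i₁ k) ∈ U := by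
    rw [← Scheme.Hom.comp_apply, S.commSq.w, Scheme.Hom.comp_apply]
    exact hU'.ge trivial
  obtain ⟨a, ha', hka⟩ := exists_mem_chartOpen hb.1 (U := U') _ hs _ hk
  have ha : a ∈ 𝓘.ideal U' := hs ▸ Ideal.subset_span ha'
  obtain ⟨φ, hφ⟩ : ∃ φ : ChartAlg 𝓘 U' a →+* S.K, Spec.map (CommRingCat.ofHom φ) ≫ emb hb ha = S.i₁ := by
    let l := IsOpenImmersion.lift (emb hb ha) S.i₁ (by
      rintro _ ⟨y, rfl⟩
      rw [Subsingleton.elim y k, ← Scheme.Hom.coe_opensRange, opensRange_emb]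
      exact hka)
    obtain ⟨q, hq⟩ := Spec.map_surjective l
    exact ⟨q.hom, by rw [show CommRingCat.ofHom q.hom = q from rfl, hq]; exact IsOpenImmersion.lift_fac _ _ _⟩
  have halg : φ.comp (algebraMap Γ(X, U'.1) _) = (algebraMap S.R S.K).comp ψ := by
    have h := S.commSq.w
    rw [← hφ, ← hψ, Category.assoc, map_alg_eq hb, ← Category.assoc, ← Spec.map_comp] at h
    have h2 := congrArg CommRingCat.Hom.hom (Spec.map_injective ((cancel_mono U'.2.fromSpec).1 h))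
    simpa using h2
  have hne : ∃ i : s, φ (frac (i : Γ(X, U'.1)) (hsI i)) ≠ 0 := by
    by_contra hn
    push Not at hn
    obtain ⟨f, -, hf⟩ := Submodule.mem_span_finset.1 (show a ∈ Submodule.span Γ(X, U'.1) (s : Set Γ(X, U'.1)) from hs.ge ha)
    have h1 := congrArg φ (frac_linear (a := a) (fun i : s => f i) (fun i : s => (i : Γ(X, U'.1))) hsI a ha
      (by rw [← hf, ← Finset.sum_coe_sort s]; rfl))
    rw [frac_self ha, map_one, map_sum, Finset.sum_eq_zero fun i _ => by rw [map_mul, hn i, mul_zero]] at h1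
    exact one_ne_zero h1
  obtain ⟨j, hj, hjr⟩ := exists_max_of_valuationRing (R := S.R) (fun i : s => φ (frac (i : Γ(X, U'.1)) (hsI i))) hne
  obtain ⟨φ', hφ'a, hφ'r, hφ'e⟩ := exists_change hb ha (hsI j) φ (isUnit_iff_ne_zero.2 hj)
  have hφ'alg : ∀ r, φ' (algebraMap _ _ r) = algebraMap S.R S.K (ψ r) := fun r => by
    rw [← RingHom.comp_apply φ', hφ'a, halg]; rfl
  have hrange : ∀ z, φ' z ∈ (algebraMap S.R S.K).range := fun z =>
    induction_frac (P := fun z => φ' z ∈ (algebraMap S.R S.K).range) (fun r => ⟨ψ r, (hφ'alg r).symm⟩)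
      (fun x hx => by
        obtain ⟨f, -, hf⟩ := Submodule.mem_span_finset.1 (show x ∈ Submodule.span Γ(X, U'.1) (s : Set Γ(X, U'.1)) from hs.ge hx)
        rw [frac_linear (fun i : s => f i) (fun i : s => (i : Γ(X, U'.1))) hsI x hx
          (by rw [← hf, ← Finset.sum_coe_sort s]; rfl), map_sum]
        refine sum_mem fun i _ => ?_
        rw [map_mul]
        refine mul_mem ⟨ψ (f i), (hφ'alg _).symm⟩ ?_
        obtain ⟨r, hr⟩ := hjr i
        exact ⟨r, mul_right_cancel₀ hj (hr.trans (hφ'r _ (hsI i)).symm)⟩)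
      (fun x y hx hy => by rw [map_add]; exact add_mem hx hy) (fun x y hx hy => by rw [map_mul]; exact mul_mem hx hy) z
  let e : S.R ≃+* (algebraMap S.R S.K).range := RingEquiv.ofBijective (algebraMap S.R S.K).rangeRestrict
    ⟨fun x y h => IsFractionRing.injective S.R S.K (congrArg Subtype.val h), (algebraMap S.R S.K).rangeRestrict_surjective⟩
  let ρ : ChartAlg 𝓘 U' (j : Γ(X, U'.1)) →+* S.R := e.symm.toRingHom.comp (φ'.codRestrict _ hrange)
  have hρ : (algebraMap S.R S.K).comp ρ = φ' :=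
    RingHom.ext fun z => congrArg Subtype.val (e.apply_symm_apply (φ'.codRestrict _ hrange z))
  refine ⟨⟨⟨Spec.map (CommRingCat.ofHom ρ) ≫ emb hb (hsI j), ?_, ?_⟩⟩⟩
  · rw [← Category.assoc, ← Spec.map_comp, ← CommRingCat.ofHom_comp, hρ, ← hφ'e, hφ]
  · rw [Category.assoc, map_alg_eq hb, ← hψ]
    congr 3
    exact RingHom.ext fun r => IsFractionRing.injective S.R S.K (by
      rw [← hφ'alg, ← hρ]; rfl)

include hb in
theorem uniqueness_of_FG (hft : BlowUp.IsFiniteTypeIdeal 𝓘) : ValuativeCriterion.Uniqueness b := by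
  intro S
  refine ⟨fun L L' => ?_⟩
  obtain ⟨l, hl, hlb⟩ := L
  obtain ⟨l', hl', hlb'⟩ := L'
  ext : 1
  dsimp only
  let p₀ : Spec (CommRingCat.of S.R) := IsLocalRing.closedPoint S.R
  obtain ⟨_, ⟨U : X.Opens, hU, rfl⟩, hpU, -⟩ :=
    X.isBasis_affineOpens.exists_subset_of_mem_open (Set.mem_univ (S.i₂ p₀)) isOpen_univ
  let U' : X.affineOpens := ⟨U, hU⟩
  have key : ∀ m : Spec (CommRingCat.of S.R) ⟶ X', m ≫ b = S.i₂ →
      ∃ (a : Γ(X, U'.1)) (ha : a ∈ 𝓘.ideal U') (φ : ChartAlg 𝓘 U' a →+* S.R),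
        Spec.map (CommRingCat.ofHom φ) ≫ emb hb ha = m := fun m hm => by
    obtain ⟨a, ha, hma⟩ := exists_mem_chartOpen hb.1 (U := U') _ (Ideal.span_eq (𝓘.ideal U')) (m p₀)
      (by rw [← Scheme.Hom.comp_apply, hm]; exact hpU)
    have htop := Scheme.preimage_eq_top_of_closedPoint_mem m hma
    let l := IsOpenImmersion.lift (emb hb ha) m (by
      rintro _ ⟨y, rfl⟩
      rw [← Scheme.Hom.coe_opensRange, opensRange_emb]
      exact htop.ge (show y ∈ (⊤ : TopologicalSpace.Opens _) from trivial))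
    obtain ⟨q, hq⟩ := Spec.map_surjective l
    exact ⟨a, ha, q.hom, by rw [show CommRingCat.ofHom q.hom = q from rfl, hq]; exact IsOpenImmersion.lift_fac _ _ _⟩
  obtain ⟨a, ha, φ, rfl⟩ := key l hlb
  obtain ⟨c, hc, φ', rfl⟩ := key l' hlb'
  let κ := algebraMap S.R S.K
  have hK : Spec.map (CommRingCat.ofHom (κ.comp φ)) ≫ emb hb ha = Spec.map (CommRingCat.ofHom (κ.comp φ')) ≫ emb hb hc := by
    simp only [CommRingCat.ofHom_comp, Spec.map_comp, Category.assoc]
    exact hl.trans hl'.symm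
  let k : Spec (CommRingCat.of S.K) := IsLocalRing.closedPoint S.K
  have hu : (κ.comp φ) (frac c hc) ≠ 0 := by
    intro h0
    refine (preimage_range_emb hb ha hc (Spec.map (CommRingCat.ofHom (κ.comp φ)) k)).1 ?_ ?_
    · rw [← Scheme.Hom.comp_apply, hK, ← opensRange_emb hb hc]
      exact ⟨_, rfl⟩
    · show (κ.comp φ) (frac c hc) ∈ IsLocalRing.maximalIdeal S.K
      rw [h0]
      exact zero_mem _
  obtain ⟨ψ, -, hψr, hψe⟩ := exists_change hb ha hc (κ.comp φ) (isUnit_iff_ne_zero.2 hu)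
  have hψ : ψ = κ.comp φ' := congrArg CommRingCat.Hom.hom
    (Spec.map_injective ((cancel_mono (emb hb hc)).1 (hψe.symm.trans hK)))
  have hunit : IsUnit (φ (frac c hc)) := by
    refine IsUnit.of_mul_eq_one (φ' (frac a ha)) (IsFractionRing.injective S.R S.K ?_)
    have h := hψr a ha
    rw [hψ, frac_self ha, map_one] at h
    rw [map_mul, map_one, mul_comm]
    exact h
  obtain ⟨φ₁, -, -, he₁⟩ := exists_change hb ha hc φ hunit
  rw [he₁]
  congr 3
  have h2 : Spec.map (CommRingCat.ofHom (κ.comp φ₁)) ≫ emb hb hc = Spec.map (CommRingCat.ofHom (κ.comp φ')) ≫ emb hb hc := by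
    rw [← hK]
    simp only [CommRingCat.ofHom_comp, Spec.map_comp, Category.assoc, he₁]
  have h1 : κ.comp φ₁ = κ.comp φ' := congrArg CommRingCat.Hom.hom (Spec.map_injective ((cancel_mono (emb hb hc)).1 h2))
  exact RingHom.ext fun z => IsFractionRing.injective S.R S.K (RingHom.congr_fun h1 z)

include hb in
/-- A blow-up in a centre of finite type is proper. -/
theorem isProper_of_FG (hft : BlowUp.IsFiniteTypeIdeal 𝓘) : IsProper b := by
  haveI := quasiCompact_of_FG hb hft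
  haveI := quasiSeparated_of_FG hb hft
  haveI := locallyOfFiniteType_of_FG hb hft
  exact IsProper.of_valuativeCriterion b
    (ValuativeCriterion.iff.2 ⟨existence_of_FG hb hft, uniqueness_of_FG hb hft⟩)

end Groth.Agent.BlowExistsLib
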